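import Cfsg.Agent.Lib.FischerOrth68.Main

/-!
# Fischer's theorem, node E: a local group of reflections mod 3 gives one dimension more

Owners: helper68 (trace, coordinates, main), helper51 (models).
-/

set_option autoImplicit false

namespace Cfsg.Agent.Lib.FischerThm

universe u

/-- a local group of reflections mod 3 gives one dimension more -/
theorem nodeE : NodeE.{u} := FischerOrth68.nodeE

end Cfsg.Agent.Lib.FischerThm
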